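import Cfsg.Agent.H10.RF.D2

/-! Fusion of the second central involution for the code module. -/

set_option autoImplicit false
set_option linter.unusedSectionVars false
set_option linter.unusedVariables false
set_option maxRecDepth 100000
open Cfsg Subgroup H19 H0 H15
open scoped commutatorElement Pointwise
namespace H10.RF
local notation "cj" => H19.cj
namespace CD
variable {G : Type*} [Group G] [Finite G] {V : Subgroup G} {ρ : G → ℕ} {v : ℕ → G} {K A : Subgroup G}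
  {a b d e g k l n q t u w x y : G} {i j : ℕ}
local notation "T" => TG V ρ gT 4
local notation "HH" => C[v 1]
local notation "CC" => N(V) ⊓ C[v 1]
local notation "UU" => VS v 5
local notation "LL" => TG V ρ gE 4
local notation "ZZ" => zpowers (v 1)
local notation "PP" => cl C[v 1] (v 2)
local notation "EE" => K ⊓ LL
local notation "QQ" => UU ⊔ K ⊓ LL
local notation:max "Ai" n:max i:max => mv (mt ubB dcB (ρ n)) i
def tP : ℕ := 0xb915563e36684d494e084aca71006e019e84b4a75c6b0b4984a2873708377311521c2d4817432a6fb4870894571aacb9c0097950d3b286256f28b8220d4ec459cd9c52692a1423c6b116e07412fa2cac5090db1e72a980488c370558951ae75849383d169522d1b8a22bcf23244d44604b4eaa5b1d400c378be929a8768058d41d2622ef5015c22ad2a34dd438aa46220f936f600471199479a02c7c6154ada4b48b475c021c964b52ef602688193551c2d888ae2d48f8203355cf25d12cb340613a232b2766d4063dc88a297093e2908c4e02d2faaae638a8444193b482d8b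8652a8d263e299b894822ad3ac1615c231bd28535c695cec5d8909d4b410411142c79add268d44aa50f650a6bc420041677ceea6964ca2136a91c618a21b92b34d047545f2b41866ac687142011893920354c54c69e9682eef281c38c2a7519c9a0e68b488f634ab08ae0b9d8485029416b352da6b484f1b81105934ac0a835c8b69dec9a9d214423bc1245bc55395b2a1ac862a330b86089956a9ef04016d64d349102f70c458d08899c4c50ded32650ad9cb0dc0515aaf398744b952611b35a010096f119e48531cf49570312b4b4e2d08ae02bc945c1c79812cb1952436f588823bdab49ca307b9ac5a928398a418820bdab49ca307b9ac5a928398a418820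
theorem be_iff : be i = true ↔ 2 ≤ i ∧ tyB.testBit i ≠ tyB.testBit (i ^^^ 1) := by
  have : ∀ i, getT tyB 1 1 i = (tyB.testBit i).toNat := fun i => by
    simp only [getT, Nat.land_eq, Nat.shiftRight_eq, Nat.mul_eq, one_mul, Nat.and_one_is_mod, Nat.toNat_testBit,
      Nat.shiftRight_eq_div_pow]
  simp only [be, band_iff, bnot_iff, Nat.ble_eq, Nat.beq_eq, xor_eq', this]
  cases tyB.testBit i <;> cases tyB.testBit (i ^^^ 1) <;> simp
theorem Pcj (hd : d ∈ PP) (hg : g ∈ HH) : g * d * g⁻¹ ∈ PP := by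
  obtain ⟨k, hk, rfl⟩ := hd
  exact ⟨_, mul_mem hg hk, (cjcj _ _ _).symm⟩
theorem Pcj' (hd : g * d * g⁻¹ ∈ PP) (hg : g ∈ HH) : d ∈ PP := by simpa [mul_assoc] using Pcj hd (inv_mem hg)
variable (h : IF V ρ v ubB dcB)
include h
theorem Psq (hd : d ∈ PP) : d * d = 1 := by
  obtain ⟨k, -, rfl⟩ := hd
  rw [← cjmul, h.vv]; simp
theorem exs : ∃ e ∈ T, e * v 2 * e⁻¹ = v 2 * v 1 := by
  obtain ⟨j, hj, k⟩ := ckO.2.2.2.2.1
  have d := ckE3
  simp only [allTo_iff, force_eq, band_iff, inC] at d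
  obtain ⟨a, ha, e⟩ := h.exTG hj (d j hj).1.1.1
  exact ⟨a, LT h ha, by rw [h.acg (h.TN ha) e, k, ← h.vx]; rfl⟩
theorem Ps (hd : d ∈ PP) : d * v 1 ∈ PP := by
  obtain ⟨k, hk, rfl⟩ := hd
  obtain ⟨e, he, q⟩ := exs h
  exact ⟨_, mul_mem hk (h.TC mdB he), by rw [← cjcj, q, cjmul, cjc hk]⟩
theorem pZ : v 2 ∉ ZZ := fun k => absurd ((h.memVS (k := 1) (by decide) (by decide)).1 (h.VS1 ▸ k)) (by decide)
theorem PZ (hd : d ∈ PP) : d ∉ ZZ := fun q => by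
  obtain ⟨k, hk, rfl⟩ := hd
  exact pZ h (by simpa [mul_assoc] using conj_mem_of_norm' (HZ hk) q)
theorem PU (hd : d ∈ PP) (hv : d ∈ V) : d ∈ UU := by
  obtain ⟨k, hk, rfl⟩ := hd
  obtain ⟨n, hn, e⟩ := h.fus mdB (X := ZZ ⊔ zpowers (v 2)) (g := k) (sup_le (zpowers_le.2 (h.vm _)) (zpowers_le.2 (h.vm _))) (by
    rw [cj_sup, cj_zpowers, cj_zpowers, cjc hk]; exact sup_le (zpowers_le.2 (h.vm _)) (zpowers_le.2 hv))
  exact e _ (mem_sup_right (mem_zpowers _)) ▸ conj_mem_of_norm (CU h ⟨hn, of_cjc ((e _ (mem_sup_left (mem_zpowers _))).trans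
    (cjc hk))⟩) (h.mVS (by decide))
theorem UP (hu : u ∈ UU) : u ∈ ZZ ∨ u ∈ PP := by
  obtain ⟨i, hi, rfl⟩ := h.exVS hu
  have : ∀ i < 32, i < 2 ∨ inC (getP tP i) = true ∧ mv (M (getP tP i)) 2 = i := by decide +kernel
  refine (this i hi).imp (fun q => h.VS1 ▸ h.mVS (k := 1) q) fun q => ?_
  obtain ⟨a, ha, e⟩ := exC h q.1
  exact ⟨a, ha.2, by rw [h.acg ha.1 e, q.2]⟩
theorem ZU : ZZ ≤ UU := zpowers_le.2 (h.mVS (by decide))
theorem toU (hg : g ∈ HH) (hy : y ∈ cj g V) (k : y ∈ ZZ ∨ y ∈ PP) : y ∈ cj g UU := by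
  obtain ⟨y, hv, rfl⟩ := mem_cj'.1 hy
  refine conj_mem_cj.2 (k.elim (fun k => ZU h ?_) fun k => PU h (Pcj' k hg) hv)
  simpa [mul_assoc] using conj_mem_of_norm' (HZ hg) k
theorem ofU (hg : g ∈ HH) (hy : y ∈ cj g UU) : y ∈ ZZ ∨ y ∈ PP := by
  obtain ⟨y, hv, rfl⟩ := mem_cj'.1 hy
  exact (UP h hv).imp (conj_mem_of_norm (HZ hg)) (Pcj · hg)
theorem Tp : T ≤ cm ZZ {v 2} := h.TGle (fun a ha => cent_cm (HZ (VC h ha).2) (cent_le_cent1 (h.vm 2) (h.cent.ge ha)))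
  fun a ha j hj e => mem_cm1.2 ⟨HZ (h.TC mdB (h.mTG ha hj e)), h.VS1 ▸ (h.cmS (k := 1) (by decide) ha (by decide)).2
    (e ▸ ckO.2.2.2.1 j hj)⟩
theorem star (hd : d ∈ PP) : ∃ g ∈ HH, g * d * g⁻¹ = v 2 ∧ cj g (V ⊓ cm ZZ {d}) ≤ T := by
  obtain ⟨k, hk, rfl⟩ := hd
  obtain ⟨c, hc, l⟩ := (h.sG mdB (Tp h)).scj_le (K := cj k⁻¹ (V ⊓ cm ZZ {k * v 2 * k⁻¹})) (by
    rw [cj_inf, cj_cm1, cj_of_mem_norm (inv_mem (HZ hk))]; simp [mul_assoc]) ((h.pg.infl _).J _)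
  have cH := ZH (h.vv 1) hc.1
  rw [cj_cj] at l
  have e : c * k⁻¹ * (k * v 2 * k⁻¹) * (c * k⁻¹)⁻¹ = ⁅c, v 2⁆ * v 2 := by rw [← cjcm]; group
  rcases (zp2 (h.vv 1)).1 (mem_cm1.1 hc).2 with q | q <;> rw [q] at e
  · exact ⟨_, mul_mem cH (inv_mem hk), e.trans (one_mul _), l⟩
  obtain ⟨a, ha, r⟩ := exs h
  refine ⟨_, mul_mem (h.TC mdB (inv_mem ha)) (mul_mem cH (inv_mem hk)), ?_, cj_mul a⁻¹ _ _ ▸ cj_le_of_mem (inv_mem ha) l⟩
  rw [← cjcj, e, csq h.sq (h.vm 1) (h.vm 2), ← r]; group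
theorem tyL (ha : a ∈ T) (s : a * a ∈ V) (n : a ∉ V) : ∃ e < 192, ρ a = getP tI e ∧ ((mC'.testBit e = true ∨ ∃ w, ⁅a, v w⁆ = v 1) ∧
    ((mA'.testBit e = true ∨ a ∉ C[v 2]) ∨ ∃ w, ⁅a, v w⁆ = v 2 ∨ ⁅a, v w⁆ = v 2 * v 1)) ∧
    ((mE'.testBit e = true ∨ ∃ w, ⁅a, v w⁆ ∉ UU) ∧ (mA'.testBit e = true → ∃ j < 2048, be j = true ∧ v j ∈ cm ZZ {a})) ∧
    (mE'.testBit e = true → a ∈ LL) ∧ (mE'.testBit e = true ∨ mA'.testBit e = true → ¬ mC'.testBit e = true ∧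
      256 ≤ #(V ⊓ cm ZZ {a})) := by
  obtain ⟨e, he, q⟩ := h.exI ha s
  have na := h.TN ha
  have d := (allTo_iff _ _).1 ckW e he
  simp only [force_eq, band_iff, bor_iff, bimp_iff, bnot_iff, Nat.blt_eq, Nat.beq_eq, Nat.ble_eq, cv, xor_eq', tb_eq, div_eq'] at d
  rw [← q] at d
  replace d := d.resolve_left (by rintro rfl; exact n ((h.ker na).1 (q.trans ckp.2.2.2.2.2.2.2.2.2.2.2.2.2.2.2.2.2.2)))
  have z : ∀ i < 2048, Ai a i ^^^ i < 2 → v i ∈ cm ZZ {a} := fun i hi k => cm_sy (mem_cm1.2 ⟨HZ (h.TC mdB ha),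
    h.VS1 ▸ (h.cmS (k := 1) (by decide) na hi).2 k⟩) (HZ (VC h (h.vm i)).2)
  refine ⟨e, he, q, ⟨d.1.1.imp_right fun k => ⟨_, by rw [h.cmv na, k]⟩, d.1.2.imp (Or.imp_right (_root_.mt
    (h.fixi na (by decide)).1)) fun k => ⟨g12 w2 e, ?_⟩⟩, ⟨d.2.1.1.imp_right fun k => ⟨g12 w3 e, fun r => k.not_gt ((h.cmS (by decide) na
      ((by decide +kernel : ∀ e < 192, g12 w3 e < 2048) e he)).1 r)⟩,
    fun k => ⟨_, (d.2.1.2 k).1.2, (d.2.1.2 k).1.1, z _ (d.2.1.2 k).1.2 (d.2.1.2 k).2⟩⟩, fun k => ?_, fun k => ⟨(d.2.2.2 k).1,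
    (d.2.2.2 k).2.trans (h.lbm fun i hi r => mem_inf.2 ⟨h.vm i, z i hi ((fm_spec _ _ hi).1 r)⟩)⟩⟩
  · rw [h.cmv na, ← h.vx]
    generalize Ai a (g12 w2 e) ^^^ g12 w2 e = j at k
    obtain rfl | rfl : j = 2 ∨ j = 3 := by omega
    exacts [.inl rfl, .inr rfl]
  · obtain ⟨b, hb, eb⟩ := (h.tspec ckE (by decide) (by decide)).2.1 _ (d.2.2.1 k).1
    exact h.memr h.VT hb (h.TN hb) na (eb.trans (d.2.2.1 k).2.symm)
theorem dfsB (hA : A ≤ T) (s : ∀ a ∈ A, a * a = 1) (n : ¬ A ≤ C[v 2]) (c : 256 ≤ #A) : (∀ a ∈ A, a ∉ V → ∃ w, ⁅a, v w⁆ = v 1) ∧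
    (∀ i < 2048, v i ∈ A → ¬ be i = true) ∧ (#A = 2 * #(V ⊓ A) ∨ #A = 16 * #(V ⊓ A) ∧ #(UU ⊓ A) ≤ 8) := by
  have d := ckD
  simp only [force_eq, band_iff, bimp_iff, allTo_iff, allTo2_iff, Nat.beq_eq] at d
  obtain ⟨⟨d1, d2⟩, d3⟩ := d
  generalize sumTo2 _ 32 64 = BB at d2 d3
  have z : getP tI 0 = pid := by decide +kernel
  have nA := hA.trans h.TN
  have sq : ∀ x ∈ V ⊔ A, x * x ∈ V := fun x hx => by
    obtain ⟨a, ha, b, hb, rfl⟩ := (mem_sup_of_norm nA).1 hx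
    convert mul_mem ha (conj_mem_of_norm (nA hb) ha) using 1
    rw [inv_eq_of_mul_eq_one_right (s b hb)]; simp [mul_assoc]
  obtain ⟨f, fmk, fix, p, c1, -, k2, k3⟩ := h.dfs2 d1 (sup_le h.VT hA) sq 8 le_rfl le_sup_left (by rw [h.cV])
    (fun k hk => by obtain rfl : k = 0 := by omega
                    exact ⟨by decide, 1, one_mem _, h.one.trans z.symm⟩)
    (fun b hb => ⟨0, by decide, by exact ((h.ker (h.VN hb)).2 hb).trans z.symm⟩)
    (fun e he => by obtain rfl : e = 0 := Nat.testBit_one_eq_true_iff_self_eq_zero.1 he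
                    exact ⟨by decide, 1, one_mem _, h.one.trans z.symm⟩)
    (fun a ha n e he ea => by
      have : e ≠ 0 := by rintro rfl; exact n ((h.ker (h.TN (sup_le h.VT hA ha))).1 (ea.trans z))
      clear ea; revert this; revert e; decide +kernel) (fun i hi => iff_of_true (h.cent.ge (h.vm i)) (sl_FULL hi))
    (fun b hb => ⟨0, by decide, by decide, ((h.ker (h.VN hb)).2 hb).trans z.symm⟩) d3
  simp only [PQ, band_iff, bor_iff, Nat.beq_eq, Nat.blt_eq, Nat.ble_eq, Nat.mul_eq, Nat.land_eq, mod_eq', Nat.pow_eq] at p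
  have e := card_sup_mul_inf nA
  rw [c1, h.cV] at e
  have fx : ∀ i < 2048, v i ∈ A → sl fix i = true := fun i hi q => (k2 i hi).1 (cents_sup (A := V ⊓ A)
    (inf_le_left.trans h.cent.ge) (inf_le_right.trans (ab_sq s)) ⟨h.vm i, q⟩)
  have c2 := h.ubm (X := V ⊓ A) inf_le_left fun i hi q => fx i hi q.2
  have e2 : #A = f * #(V ⊓ A) := Nat.eq_of_mul_eq_mul_left (by decide : 0 < 2048) (by rw [← e]; ring)
  replace p := p.resolve_left (by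
    rintro (p | p)
    · exact n (le_cent1_iff.2 (cent_mono le_sup_right ((k2 2 (by decide)).2 p)))
    · exact p.not_ge (c.trans (e2.le.trans (Nat.mul_le_mul_left _ c2))))
  refine ⟨fun a ha nv => ?_, fun i hi q b => ?_, p.2.imp (fun k => by rw [e2, k]) fun k => ⟨by rw [e2, k.1], le_trans (h.ubm
    (inf_le_left.trans h.VS_le) fun i hi q => ?_) k.2⟩⟩
  · obtain ⟨e, he, t, r⟩ := k3 a (mem_sup_right ha)
    obtain ⟨e', he', r', k, -⟩ := tyL h (hA ha) (s a ha ▸ one_mem _) nv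
    obtain rfl : e' = e := (by decide +kernel : ∀ e < 192, ∀ e' < 192, getP tI e = getP tI e' → e = e') _ he' _ he (r'.symm.trans r)
    refine k.1.resolve_left fun k => ?_
    have := congrArg (·.testBit e') p.1.1
    simp [t, k] at this
  · have := congrArg (sl · i) p.1.2
    simp only [sl_and, fx i hi q, d2 i hi b] at this
    simp [sl_eq] at this
  · have := (h.memVS (by decide) hi).1 q.1
    rw [sl_eq, show 4096 ^ 32 = 2 ^ 384 from (pow_mul 2 12 32).symm, Nat.testBit_mod_two_pow, ← sl_eq, fx i hi q.2]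
    simp; omega
theorem stA (hd : d ∈ PP) (c : ∃ w, ⁅d, v w⁆ = v 1) (hT : d ∈ T) (hg : g ∈ HH) (e : g * d * g⁻¹ = v 2) :
    (∀ a ∈ cj g (V ⊓ cm ZZ {d}), a * a = 1) ∧ ¬ cj g (V ⊓ cm ZZ {d}) ≤ C[v 2] := by
  refine ⟨sq_cj (A := V ⊓ cm ZZ {d}) (fun a ha => h.sq a ha.1) g, fun l => ?_⟩
  obtain ⟨w, c⟩ := c
  rw [← e, ← cj_cent1, cj_le_cj] at l
  exact h.s1 mdB (c ▸ cm1.2 (mem_cent1_symm.1 (l ⟨h.vm w, cm_sy (mem_cm1.2 ⟨HZ (h.TC mdB hT), c ▸ mem_zpowers _⟩)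
    (HZ (VC h (h.vm w)).2)⟩)))
theorem noA (hd : d ∈ PP) (hT : d ∈ T) (n : d ∉ V) {e : ℕ} (he : e < 192) (r : ρ d = getP tI e) : ¬ mA'.testBit e = true := fun t => by
  obtain ⟨e', he', r', k1, k2, k3⟩ := tyL h hT (Psq h hd ▸ one_mem _) n
  obtain rfl : e' = e := (by decide +kernel : ∀ e < 192, ∀ e' < 192, getP tI e = getP tI e' → e = e') _ he' _ he (r'.symm.trans r)
  obtain ⟨g, hg, eg, l⟩ := star h hd
  have k := k3.2 (.inr t)
  have s := stA h hd (k1.1.resolve_left k.1) hT hg eg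
  obtain ⟨f1, f2, -⟩ := dfsB h l s.1 s.2 (by rw [card_cj]; exact k.2)
  obtain ⟨j, hj, b, c⟩ := k2.2 t
  have m : g * v j * g⁻¹ ∈ cj g (V ⊓ cm ZZ {d}) := conj_mem_cj.2 ⟨h.vm j, c⟩
  have x1 : ∀ {i}, i < 2048 → i ^^^ 1 < 2048 := fun hi => Nat.xor_lt_two_pow (n := 11) hi (by decide)
  rw [be_iff] at b
  by_cases q : g * v j * g⁻¹ ∈ V
  · obtain ⟨i, hi, ei⟩ := h.vs _ q
    refine f2 i hi (ei ▸ m) (be_iff.2 ⟨?_, ?_⟩)
    · by_contra lt
      have hz : g * v j * g⁻¹ ∈ ZZ := ei ▸ h.VS1 ▸ h.mVS (k := 1) (i := i) (by omega)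
      have : v j ∈ ZZ := by simpa [mul_assoc] using conj_mem_of_norm' (HZ hg) hz
      have := (h.memVS (k := 1) (by decide) hj).1 (h.VS1 ▸ this)
      omega
    · rw [h.tyG mdB hj hi ei.symm, h.tyG mdB (x1 hj) (x1 hi) (g := g) (by rw [h.vx, h.vx, cjmul, cjc hg, ei])]
      exact b.2
  · obtain ⟨w, ew⟩ := f1 _ m q
    refine b.2 (h.tyG mdB hj (x1 hj) (g := g⁻¹ * v w * g) ?_).symm
    rw [Nat.xor_comm, h.vx, ← h.vinv 1, ← cjc (inv_mem hg), ← ew]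
    simp only [commutatorElement_def]; group
theorem inL (hd : d ∈ PP) (hT : d ∈ T) (n : d ∉ V) : d ∈ LL ∧ (∃ w, ⁅d, v w⁆ = v 1) ∧ 256 ≤ #(V ⊓ cm ZZ {d}) := by
  have dd := Psq h hd
  obtain ⟨e, he, r, k1, k2, k3⟩ := tyL h hT (dd ▸ one_mem _) n
  rcases k2.1 with t | ⟨w, t⟩
  · exact ⟨k3.1 t, k1.1.resolve_left (k3.2 (.inl t)).1, (k3.2 (.inl t)).2⟩
  refine absurd ?_ t
  obtain ⟨g, hg, eg, l⟩ := star h hd
  have jV := cmN (h.TN hT) (h.vm w)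
  have jd : ⁅d, v w⁆ * d ∈ PP := by
    rw [← inv_eq_of_mul_eq_one_right (h.sq _ jV), commutatorElement_inv, ← cjcm]; exact Pcj hd (VC h (h.vm w)).2
  have jc : ⁅d, v w⁆ ∈ C[d] := mem_cent1.2 (by
    rw [← inv_eq_of_mul_eq_one_right (Psq h jd), mul_inv_rev, inv_eq_of_mul_eq_one_right dd, inv_eq_of_mul_eq_one_right (h.sq _ jV)])
  generalize ⁅d, v w⁆ = j at jV jd jc
  have m := l (conj_mem_cj.2 ⟨jV, cent_cm (HZ (VC h jV).2) jc⟩)
  have jp := Pcj jd hg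
  rw [cjmul, eg] at jp
  have p2 : v 2 ∈ UU := h.mVS (by decide)
  have fin : g * j * g⁻¹ ∈ ZZ ∨ g * j * g⁻¹ ∈ PP → j ∈ UU := fun k =>
    conj_mem_cj.1 (toU h hg (conj_mem_cj.2 jV) k)
  by_cases q : g * j * g⁻¹ ∈ V
  · exact fin (UP h ((Subgroup.mul_mem_cancel_right _ p2).1 (PU h jp (mul_mem q (h.vm 2)))))
  obtain ⟨e', he', r', k, -⟩ := tyL h m (by rw [← cjmul, h.sq j jV]; simp) q
  rcases k.2 with (k | k) | ⟨u, k⟩
  · exact absurd k (noA h jp (mul_mem m (h.VT (h.vm 2))) (fun k => q ((Subgroup.mul_mem_cancel_right _ (h.vm 2)).1 k)) he'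
      ((h.mulV (h.TN m) (h.vm 2)).trans r'))
  · exact absurd (by rw [← eg, ← cj_cent1]; exact conj_mem_cj.2 jc) k
  refine fin (.inr (Pcj' (g := v u) ?_ (VC h (h.vm u)).2))
  have c := csq h.sq (h.vm 2) (h.vm 1)
  have i1 := inv_eq_of_mul_eq_one_right (Psq h jp)
  have i2 := inv_eq_of_mul_eq_one_right (Psq h (Ps h jp))
  have i3 : (g * j * g⁻¹)⁻¹ = g * j * g⁻¹ := inv_eq_of_mul_eq_one_right (by rw [← cjmul, h.sq j jV]; simp)
  rw [cjcm, ← commutatorElement_inv]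
  rcases k with k | k <;> rw [k]
  · rwa [← i3, ← mul_inv_rev, i1]
  · rw [← i3, ← mul_inv_rev, ← mul_assoc, i2]; exact Ps h jp
variable (kk : KS V ρ K)
include kk
open Classical in
theorem C1 (he : e ∈ EE) (r : ρ e = getP tE 1) (hd : d ∈ LL) (dd : d * d = 1) (n : d ∉ V) :
    ∃ c ∈ CC, c * d * c⁻¹ = v (if d ∈ QQ then 0 else 64) * e := by
  obtain ⟨w, hw, b, hb, rfl⟩ := decL h kk hd
  obtain ⟨_, -, -, -, -, -, k | k⟩ := Lk h hb.2
  · exact absurd (mul_mem hw k) n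
  obtain ⟨a, ha, ea⟩ := exk h kk k.2.1.2.1
  have e1 : a * b * a⁻¹ = e := inj h kk (conj_mem_of_norm (KE h kk ha) hb).1 he.1
    (h.cjr (kk.le hb.1) (kk.le he.1) ha.2.1 (by rw [ea, r, k.2.1.2.2]))
  obtain ⟨i, hi, ei⟩ := h.vs _ (conj_mem_of_norm ha.2.1 hw)
  have e2 : a * (w * b) * a⁻¹ = v i * e := by rw [cjmul, e1, ei]
  have ne := kk.le he.1
  have f : Ai e i = i := (h.fixi ne hi).1 (mem_cent1.2 (by
    have : v i * e * (v i * e) = 1 := by rw [← e2, ← cjmul, dd]; simp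
    rw [← inv_eq_of_mul_eq_one_right this, mul_inv_rev, h.vinv, inv_eq_of_mul_eq_one_right (Esq h kk he)]))
  have d := ckV
  simp only [force_eq, allTo2_iff, band_iff, bimp_iff, Nat.blt_eq, Nat.beq_eq, cv, xor_eq', brec_eq_ite] at d
  obtain ⟨d1, d2⟩ := (d i hi).2 (r ▸ f)
  obtain ⟨u, hu, eu⟩ := exk h kk (ckO.1 _ d1).1
  have e3 : u * e * u⁻¹ = e := inj h kk (conj_mem_of_norm (KE h kk hu) he).1 he.1
    (h.cjr ne ne hu.2.1 (by rw [eu, r, (ckO.1 _ d1).2]))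
  generalize Nat.mod _ 2048 = j at d2
  have m := mul_mem (mul_mem (VC h (h.vm j)) hu.2) ha.2
  have e4 : v j * u * a * (w * b) * (v j * u * a)⁻¹ = v (if i < 32 then 0 else 64) * e := by
    rw [← cjcj, ← cjcj, e2, cjmul u, e3, h.acg hu.2.1 eu, cjmul, h.cjv (h.vm _) (h.vm _), cjcm, ← commutatorElement_inv, h.cmv ne,
      h.vinv, ← mul_assoc, ← h.vx, r, d2]
  refine ⟨_, m, e4.trans ?_⟩
  have q : w * b ∈ QQ ↔ v (if i < 32 then 0 else 64) ∈ QQ := by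
    rw [← conj_mem_cj (g := v j * u * a), cj_of_mem_norm (CQ h kk m), e4,
      Subgroup.mul_mem_cancel_right _ (mem_sup_right he : e ∈ QQ)]
  by_cases c : i < 32 <;> simp only [c, if_true, if_false] at q ⊢
  · rw [if_pos (q.2 (h.v0 ▸ one_mem _))]
  · rw [if_neg fun k => absurd ((h.memVS (by decide) (by decide)).1 ((QV h kk).le ⟨q.1 k, h.vm _⟩)) (by decide)]
open Classical in
theorem C1' (hd : d ∈ LL) (n : d ∉ V) (p : d ∈ PP) (ha : a ∈ LL) (aa : a * a = 1) (na : a ∉ V) (c : d ∈ QQ ↔ a ∈ QQ) : a ∈ PP := by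
  obtain ⟨b, hb, eb⟩ := (h.tspec ckE (by decide) (by decide)).2.1 1 (by decide)
  obtain ⟨w, hw, e, he, rfl⟩ := decL h kk hb
  have r := (h.Vmul (kk.le he.1) hw).symm.trans eb
  obtain ⟨x, hx, ex⟩ := C1 h kk he r hd (Psq h p) n
  obtain ⟨y, hy, ey⟩ := C1 h kk he r ha aa na
  exact Pcj' (by rw [ey, ← if_congr c rfl rfl, ← ex]; exact Pcj p hx.2) hy.2
theorem inQ (hd : d ∈ PP) (hT : d ∈ T) : d ∈ QQ := by
  by_cases n : d ∈ V
  · exact mem_sup_left (PU h hd n)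
  by_contra nq
  obtain ⟨hl, c1, c2⟩ := inL h hd hT n
  obtain ⟨g, hg, eg, l⟩ := star h hd
  have s := stA h hd c1 hT hg eg
  rw [← card_cj g] at c2
  obtain ⟨-, -, f⟩ := dfsB h l s.1 s.2 c2
  have UA : cj g UU ≤ cj g (V ⊓ cm ZZ {d}) := cj_mono g (le_inf h.VS_le fun u hu => cm_sy (mem_cm1.2 ⟨HZ (h.TC mdB hT), LU h hl hu⟩)
    (HZ (VC h (h.VS_le hu)).2))
  have AV : cj g (V ⊓ cm ZZ {d}) ≤ cj g V := cj_mono g inf_le_left
  generalize cj g (V ⊓ cm ZZ {d}) = A at *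
  have tU : ∀ y ∈ V, y ∈ cj g UU → y ∈ UU := fun y hy k => cj_one UU ▸ toU h (one_mem _) ((cj_one V).symm ▸ hy) (ofU h hg k)
  have key : ∀ u ∈ cj g UU, u ∉ V → ∀ w ∈ V ⊓ A, w ∉ UU → u * w ∈ QQ ∧ u ∉ QQ := fun u hu nu w hw nw => by
    have uL := (inL h ((ofU h hg hu).resolve_left fun k => nu (h.VS_le (ZU h k))) (l (UA hu)) nu).1
    have m := mul_mem (UA hu) hw.2
    have : u * w ∈ QQ := by
      by_contra k
      exact nw (tU w hw.1 ((Subgroup.mul_mem_cancel_left _ hu).1 (toU h hg (AV m) (.inr (C1' h kk hl n hd (mul_mem uL (h.VT hw.1))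
        (s.1 _ m) (fun q => nu ((Subgroup.mul_mem_cancel_right _ hw.1).1 q)) (iff_of_false nq k))))))
    exact ⟨this, fun k => nw ((QV h kk).le ⟨(Subgroup.mul_mem_cancel_left _ k).1 this, hw.1⟩)⟩
  have cU := h.cVS (k := 5) (by decide)
  obtain ⟨u, hu, nu⟩ := SetLike.not_le_iff_exists.1 (show ¬ cj g UU ≤ V from fun k => n (h.VS_le (conj_mem_cj.1
    ((eq_of_le_of_card_eq (fun y hy => tU y (k hy) hy) (card_cj g _)).ge (eg ▸ h.mVS (by decide))))))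
  have cm : ∀ a ∈ A, ∀ b ∈ A, ∀ c ∈ A, a * b * (a * c) = b * c ∧ b * a * (c * a) = b * c := fun a ha b hb c hc => by
    rw [csq s.1 ha hb, csq s.1 hc ha, and_self, mul_assoc, ← mul_assoc a, s.1 a ha, one_mul]
  have l1 := card_le (inf_le_left : UU ⊓ A ≤ UU)
  by_cases q : V ⊓ A ≤ UU
  · have := card_le (le_inf q inf_le_right)
    omega
  obtain ⟨w, hw, nw⟩ := SetLike.not_le_iff_exists.1 q
  have a1 := idx2 (K := V ⊓ A) (L := UU) fun a ha b hb na nb => (QV h kk).le ⟨(cm u (UA hu) a ha.2 b hb.2).1 ▸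
    mul_mem (key u hu nu a ha na).1 (key u hu nu b hb nb).1, mul_mem ha.1 hb.1⟩
  have a2 := idx2 (K := cj g UU) (L := V) fun a ha b hb na nb => by
    by_contra k
    exact (key _ (mul_mem ha hb) k w hw nw).2 ((cm w hw.2 a (UA ha) b (UA hb)).2 ▸ mul_mem (key a ha na w hw nw).1
      (key b hb nb w hw nw).1)
  have a3 := card_le (le_inf (fun y hy => tU y hy.2 hy.1) (inf_le_left.trans UA) : cj g UU ⊓ V ≤ UU ⊓ A)
  have a4 := card_le (inf_le_right : V ⊓ A ⊓ UU ≤ UU)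
  rw [card_cj] at a2
  omega
end CD
end H10.RF
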